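import Groth.Agent.Lib.CI2.KRLocal
import Groth.Agent.Lib.CI2.KRSmooth
import Groth.Agent.Lib.CIReg6.Quot
import Groth.Agent.Lib.KoszulBridge4
import Groth.Agent.Lib.EmbDef.Regular
import Mathlib

/-!
# Koszul regularity of ideals with regular quotient in regular rings
-/

set_option autoImplicit false
set_option linter.style.haveILetI false
universe u

open AlgebraicGeometry RingTheory.Sequence
open Groth.Agent.CI2 (Ex)

namespace Groth.Agent.RegKR4

/-- In a noetherian ring a sequence regular at a prime is regular near it. -/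
theorem exists_isWeaklyRegular_away {A : Type u} [CommRing A] [IsNoetherianRing A] (p : Ideal A) [p.IsPrime]
    (fs : List A) (h : IsWeaklyRegular (Localization.AtPrime p) (fs.map (algebraMap A (Localization.AtPrime p)))) :
    ∃ g ∉ p, ∀ g' : A, g ∣ g' →
      IsWeaklyRegular (Localization.Away g') (fs.map (algebraMap A (Localization.Away g'))) := by
  classical
  have hj : ∀ j : Fin fs.length, ∃ s ∉ p, ∀ a, a * fs[j] ∈ Ideal.ofList (fs.take j) →
      s * a ∈ Ideal.ofList (fs.take j) := by
    intro j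
    let I := Ideal.ofList (fs.take j)
    let C : Ideal A := Submodule.comap (LinearMap.mulRight A fs[j]) I
    obtain ⟨t, ht⟩ := IsNoetherian.noetherian C
    have hc : ∀ c : t, ∃ s ∉ p, s * c.1 ∈ I := fun c => by
      have hmem : c.1 * fs[j] ∈ I := (ht.le (Submodule.subset_span c.2) : c.1 ∈ C)
      have h1 := (EmbDef.isWeaklyRegular_self_iff _).1 h j (by simp) (algebraMap A _ c.1) (by
        rw [List.getElem_map, ← List.map_take, ← Ideal.map_ofList, ← map_mul]
        exact Ideal.mem_map_of_mem _ hmem)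
      rw [← List.map_take, ← Ideal.map_ofList, CI2.mem_map_localization p.primeCompl] at h1
      obtain ⟨s, hs, hsc⟩ := h1
      exact ⟨s, hs, hsc⟩
    choose s hs hsc using hc
    refine ⟨∏ c, s c, fun hm => ?_, fun a ha => ?_⟩
    · obtain ⟨c, -, hc⟩ := (inferInstance : p.IsPrime).prod_mem_iff.mp hm
      exact hs c hc
    · have haC : a ∈ Submodule.span A (t : Set A) := ht.ge (show a ∈ C from ha)
      induction haC using Submodule.span_induction with
      | mem x hx =>
        exact Ideal.mem_of_dvd _ (mul_dvd_mul_right (Finset.dvd_prod_of_mem s (Finset.mem_univ (⟨x, hx⟩ : t))) x)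
          (hsc ⟨x, hx⟩)
      | zero => simp
      | add x y hx hy ihx ihy =>
        rw [mul_add]
        exact add_mem (ihx (ht.le hx)) (ihy (ht.le hy))
      | smul r x hx ihx =>
        rw [smul_eq_mul, mul_left_comm]
        exact Ideal.mul_mem_left _ r (ihx (ht.le hx))
  choose s hs hsa using hj
  refine ⟨∏ j, s j, fun hm => ?_, fun g' hdvd => ?_⟩
  · obtain ⟨j, -, hj⟩ := (inferInstance : p.IsPrime).prod_mem_iff.mp hm
    exact hs j hj
  rw [EmbDef.isWeaklyRegular_self_iff]
  intro i hi a ha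
  rw [List.length_map] at hi
  rw [← List.map_take, ← Ideal.map_ofList] at ha ⊢
  rw [List.getElem_map] at ha
  let L := Localization.Away g'
  obtain ⟨⟨b, t⟩, hbt⟩ := IsLocalization.surj (Submonoid.powers g') a
  have hmem := Ideal.mul_mem_right (algebraMap A L (t : A)) _ ha
  rw [mul_right_comm, hbt, ← map_mul, CI2.mem_map_localization (Submonoid.powers g')] at hmem
  obtain ⟨_, ⟨M, rfl⟩, hM⟩ := hmem
  rw [← mul_assoc] at hM
  have hN := hsa ⟨i, hi⟩ (g' ^ M * b) hM
  rw [← Ideal.unit_mul_mem_iff_mem _ (IsLocalization.map_units L t), mul_comm, hbt,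
    CI2.mem_map_localization (Submonoid.powers g')]
  obtain ⟨e, he⟩ := (Finset.dvd_prod_of_mem s (Finset.mem_univ (⟨i, hi⟩ : Fin fs.length))).trans hdvd
  refine ⟨g' ^ (1 + M), ⟨1 + M, rfl⟩, ?_⟩
  rw [pow_add, pow_one]
  nth_rw 1 [he]
  rw [show s ⟨i, hi⟩ * e * g' ^ M * b = e * (s ⟨i, hi⟩ * (g' ^ M * b)) by ring]
  exact Ideal.mul_mem_left _ _ hN

/-- An ideal which is regular with regular quotient at each of its primes is Koszul regular. -/
theorem isKR_of_regular {A : Type u} [CommRing A] [IsNoetherianRing A] (I : Ideal A)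
    (hA : ∀ p : PrimeSpectrum A, I ≤ p.asIdeal → IsRegularLocalRing (Localization.AtPrime p.asIdeal))
    (hQ : ∀ p : PrimeSpectrum A, I ≤ p.asIdeal → IsRegularLocalRing (Localization.AtPrime p.asIdeal ⧸
      I.map (algebraMap A (Localization.AtPrime p.asIdeal)))) :
    LCI.IsKoszulRegularIdeal I := by
  classical
  refine CI2.isKR_of_cover I fun p hp => ?_
  let L := Localization.AtPrime p.asIdeal
  haveI := hA p hp
  haveI := hQ p hp
  obtain ⟨rs, hrs, hgen⟩ :=
    (CIReg6.isRegularLocalRing_iff (I.map (algebraMap A L))).1 (inferInstance : IsRegularLocalRing L)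
  have hclear : ∀ i : Fin rs.length, ∃ a ∈ I, ∃ w : Lˣ, algebraMap A L a = w * rs.get i := fun i => by
    obtain ⟨⟨a, ⟨b, hb⟩⟩, hab⟩ := IsLocalization.surj p.asIdeal.primeCompl (rs.get i)
    have hmem : algebraMap A L a ∈ I.map (algebraMap A L) := by
      rw [← hab, ← hgen]; exact Ideal.mul_mem_right _ _ (Ideal.subset_span (rs.get_mem i))
    obtain ⟨s, hs, hsa⟩ := (CI2.mem_map_localization p.asIdeal.primeCompl).1 hmem
    refine ⟨s * a, hsa, (IsLocalization.map_units L (⟨s * b, mul_mem hs hb⟩ : p.asIdeal.primeCompl)).unit, ?_⟩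
    rw [IsUnit.unit_spec, map_mul, ← hab, map_mul]
    ring
  choose a haI w hw using hclear
  let fs := List.ofFn a
  have heq : Ideal.ofList (fs.map (algebraMap A L)) = Ideal.ofList rs := by
    refine le_antisymm (Ideal.span_le.2 fun x hx => ?_) (Ideal.span_le.2 fun x hx => ?_)
    · obtain ⟨y, hy, rfl⟩ := List.mem_map.1 hx
      obtain ⟨i, rfl⟩ := List.mem_ofFn.1 hy
      rw [hw]
      exact Ideal.mul_mem_left _ _ (Ideal.subset_span (rs.get_mem i))
    · obtain ⟨i, rfl⟩ := List.get_of_mem hx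
      have h1 : algebraMap A L (a i) ∈ Ideal.ofList (fs.map (algebraMap A L)) :=
        Ideal.subset_span (List.mem_map.2 ⟨_, List.mem_ofFn.2 ⟨i, rfl⟩, rfl⟩)
      have h2 := Ideal.mul_mem_left _ ((w i)⁻¹ : Lˣ).1 h1
      rwa [hw, Units.inv_mul_cancel_left] at h2
  have hwr : IsWeaklyRegular L (fs.map (algebraMap A L)) := by
    refine ((EmbDef.isWeaklyRegular_self_iff _).2 fun i hi x hx => ?_)
    have hlen : (fs.map (algebraMap A L)).length = rs.length := by simp [fs]
    have htake : ∀ j, Ideal.ofList ((fs.map (algebraMap A L)).take j) = Ideal.ofList (rs.take j) := by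
      intro j
      refine le_antisymm (Ideal.span_le.2 fun y hy => ?_) (Ideal.span_le.2 fun y hy => ?_)
      · obtain ⟨k, hk, rfl⟩ := List.mem_take_iff_getElem.1 hy
        obtain ⟨hk1, hk2⟩ := lt_min_iff.1 hk
        simp only [fs, List.getElem_map, List.getElem_ofFn]
        rw [hw]
        exact Ideal.mul_mem_left _ _ (Ideal.subset_span (List.mem_take_iff_getElem.2
          ⟨k, lt_min hk1 (hlen ▸ hk2), rfl⟩))
      · obtain ⟨k, hk, rfl⟩ := List.mem_take_iff_getElem.1 hy
        obtain ⟨hk1, hk2⟩ := lt_min_iff.1 hk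
        have h1 : algebraMap A L (a ⟨k, hk2⟩) ∈ Ideal.ofList ((fs.map (algebraMap A L)).take j) :=
          Ideal.subset_span (List.mem_take_iff_getElem.2 ⟨k, lt_min hk1 (hlen.symm ▸ hk2), by simp [fs]⟩)
        have h2 := Ideal.mul_mem_left _ ((w ⟨k, hk2⟩)⁻¹ : Lˣ).1 h1
        rwa [hw, Units.inv_mul_cancel_left] at h2
    rw [htake] at hx ⊢
    have hi' : i < rs.length := hlen ▸ hi
    refine (EmbDef.isWeaklyRegular_self_iff _).1 hrs.toIsWeaklyRegular i hi' x ?_
    have h3 : (fs.map (algebraMap A L))[i] = w ⟨i, hi'⟩ * rs[i] := by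
      simp only [fs, List.getElem_map, List.getElem_ofFn]
      exact hw ⟨i, hi'⟩
    rw [h3, mul_left_comm] at hx
    exact (Ideal.unit_mul_mem_iff_mem _ (w ⟨i, hi'⟩).isUnit).1 hx
  obtain ⟨g₀, hg₀, hwr₀⟩ := exists_isWeaklyRegular_away p.asIdeal fs hwr
  obtain ⟨t, ht⟩ := IsNoetherian.noetherian I
  have hc : ∀ c : t, ∃ s ∉ p.asIdeal, s * c.1 ∈ Ideal.ofList fs := fun c => by
    have h1 : algebraMap A L c.1 ∈ Ideal.ofList (fs.map (algebraMap A L)) := by
      rw [heq, hgen]; exact Ideal.mem_map_of_mem _ (ht.le (Submodule.subset_span c.2))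
    rw [← Ideal.map_ofList, CI2.mem_map_localization p.asIdeal.primeCompl] at h1
    obtain ⟨s, hs, hsc⟩ := h1
    exact ⟨s, hs, hsc⟩
  choose s hs hsc using hc
  let g := g₀ * ∏ c, s c
  have hg : g ∉ p.asIdeal := fun hm => (p.2.mem_or_mem hm).elim hg₀ fun hm => by
    obtain ⟨c, -, hc⟩ := p.2.prod_mem_iff.mp hm
    exact hs c hc
  refine ⟨g, hg, ?_⟩
  have hI : I.map (algebraMap A (Localization.Away g)) = Ideal.ofList (fs.map (algebraMap A (Localization.Away g))) := by
    rw [← Ideal.map_ofList]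
    refine le_antisymm ?_ (Ideal.map_mono (Ideal.span_le.2 fun x hx => ?_))
    · rw [← ht, Submodule.span, ← Submodule.span, Ideal.map_span, Ideal.span_le]
      rintro _ ⟨c, hc, rfl⟩
      refine (CI2.mem_map_localization (Submonoid.powers g)).2 ⟨g, Submonoid.mem_powers g, ?_⟩
      exact Ideal.mem_of_dvd _ (mul_dvd_mul_right
        ((Finset.dvd_prod_of_mem s (Finset.mem_univ (⟨c, hc⟩ : t))).trans (dvd_mul_left _ g₀)) c) (hsc ⟨c, hc⟩)
    · obtain ⟨i, rfl⟩ := List.mem_ofFn.1 hx
      exact haI i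
  have hex : Ex (Localization.Away g) (Localization.Away g) (fs.map (algebraMap A (Localization.Away g))) :=
    CI2.ex_of_isWeaklyRegular _ _ (hwr₀ g (dvd_mul_right _ _))
  refine (CI2.isKR_iff _).2 fun P hP => ⟨1, fun h => P.2.ne_top ((Ideal.eq_top_iff_one _).2 h),
    (fs.map (algebraMap A (Localization.Away g))).map (algebraMap _ (Localization.Away (1 : Localization.Away g))),
    CI2.Ex.localization (Submonoid.powers (1 : Localization.Away g)) hex, ?_⟩
  rw [hI, Ideal.map_ofList]

end Groth.Agent.RegKR4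

namespace Groth.Agent.RegKR4

open CategoryTheory

theorem isRegularRing_sections {X : Scheme.{u}} [IsLocallyNoetherian X]
    (hX : ∀ x : X, IsRegularLocalRing (X.presheaf.stalk x)) {U : X.Opens} (hU : IsAffineOpen U) :
    IsRegularRing Γ(X, U) := by
  haveI : IsNoetherianRing Γ(X, U) := IsLocallyNoetherian.component_noetherian ⟨U, hU⟩
  refine isRegularRing_iff.2 fun p hp => ?_
  let P : PrimeSpectrum Γ(X, U) := ⟨p, hp⟩
  have hmem : hU.fromSpec P ∈ U := hU.range_fromSpec.le ⟨P, rfl⟩
  have hprime : hU.primeIdealOf ⟨hU.fromSpec P, hmem⟩ = P :=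
    hU.fromSpec.isOpenEmbedding.injective (hU.fromSpec_primeIdealOf ⟨_, hmem⟩)
  letI := X.presheaf.algebra_section_stalk (U := U) ⟨hU.fromSpec P, hmem⟩
  haveI : IsLocalization.AtPrime (X.presheaf.stalk (hU.fromSpec P)) p := by
    have := hU.isLocalization_stalk ⟨hU.fromSpec P, hmem⟩
    rwa [hprime] at this
  haveI := hX (hU.fromSpec P)
  exact IsRegularLocalRing.of_ringEquiv
    (IsLocalization.algEquiv p.primeCompl (X.presheaf.stalk (hU.fromSpec P)) (Localization.AtPrime p)).toRingEquiv

theorem isLCI_of_regular {A B : Type u} [CommRing A] [CommRing B] [Algebra A B] [IsRegularRing A] [IsRegularRing B]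
    [Algebra.FiniteType A B] : LCI.IsLCI A B := by
  obtain ⟨n, φ, hφ⟩ := Algebra.FiniteType.iff_quotient_mvPolynomial''.1 (inferInstance : Algebra.FiniteType A B)
  refine ⟨inferInstance, n, φ, hφ, isKR_of_regular _ (fun p _ => inferInstance) fun p hp => ?_⟩
  haveI : (p.asIdeal.map φ.toRingHom).IsPrime := Ideal.map_isPrime_of_surjective hφ hp
  let q := p.asIdeal.map φ.toRingHom
  have hcomap : q.comap φ.toRingHom = p.asIdeal := by
    rw [Ideal.comap_map_of_surjective φ.toRingHom hφ, ← RingHom.ker_eq_comap_bot, sup_eq_left.mpr hp]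
  have hmap : p.asIdeal.primeCompl.map φ.toRingHom = q.primeCompl := by
    ext y
    refine ⟨fun ⟨x, hx, e⟩ hy => hx ?_, fun hy => ?_⟩
    · rw [← hcomap]; exact (show φ.toRingHom x ∈ q from e ▸ hy)
    · obtain ⟨x, rfl⟩ := hφ y
      exact ⟨x, fun hx => hy (Ideal.mem_map_of_mem _ hx), rfl⟩
  haveI : IsLocalization (p.asIdeal.primeCompl.map φ.toRingHom) (Localization.AtPrime q) := by
    rw [hmap]; infer_instance
  let σ : Localization.AtPrime p.asIdeal →+* Localization.AtPrime q :=
    IsLocalization.map _ φ.toRingHom (Submonoid.le_comap_map p.asIdeal.primeCompl)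
  have hσ : Function.Surjective σ := IsLocalization.map_surjective_of_surjective (M := p.asIdeal.primeCompl)
    (g := φ.toRingHom) (S := Localization.AtPrime p.asIdeal) (Q := Localization.AtPrime q) hφ
  have hk : RingHom.ker σ = (RingHom.ker φ.toRingHom).map
      (algebraMap _ (Localization.AtPrime p.asIdeal)) :=
    IsLocalization.ker_map (S := Localization.AtPrime p.asIdeal) (Localization.AtPrime q) φ.toRingHom rfl
  haveI : IsRegularLocalRing (Localization.AtPrime q) := inferInstance
  exact IsRegularLocalRing.of_ringEquiv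
    ((RingHom.quotientKerEquivOfSurjective hσ).symm.trans (Ideal.quotEquivOfEq hk))

end Groth.Agent.RegKR4
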